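import Cfsg.Agent.Lib.Lie.Amitsur.Norm

/-!
The two algebraic obstructions in Amitsur's theorem: in a division ring of characteristic zero
the icosian quaternion algebra over `ℚ(√5)` commutes with no element of prime order `p ≥ 7`,
and no square root of `-1` induces the Galois automorphism on its centre.
-/

set_option autoImplicit false

namespace Cfsg.Agent.Lie.Amitsur

open Polynomial Finset

variable {D : Type*} [DivisionRing D] [CharZero D]

theorem commute_aeval {x y : D} (h : Commute x y) (f : ℚ[X]) : Commute x (aeval y f) := by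
  induction f using Polynomial.induction_on' with
  | add f g hf hg => rw [map_add]; exact hf.add_right hg
  | monomial n a =>
    rw [aeval_monomial]
    exact (Algebra.commute_algebraMap_right a x).mul_right (h.pow_right n)

theorem false_of_quadratic {i j c : D} (hi : i * i = -1) (hji : j * i = -(i * j)) (hj : j * j = -1)
    (hci : Commute c i) (hcj : Commute c j) (hc : c * c + c - 1 = 0)
    {z : D} (hzi : Commute z i) (hzj : Commute z j) (hzc : Commute z c)
    {p : ℕ} (hp : p.Prime) (h7 : 7 ≤ p) (hz : z ^ p = 1) (hz1 : z ≠ 1) : False := by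
  haveI := Fact.mk hp
  obtain ⟨q, hq, h20, hns⟩ := exists_prime_aux hp h7
  haveI := Fact.mk hq
  obtain ⟨A', B', hdvd⟩ := exists_cyclotomic_dvd (p := p) (q := q) (by omega) (by omega) hns
  obtain ⟨a, b, hab⟩ := exists_two_mul_eq hq h20
  set A := aeval z A' with hA
  set B := aeval z B' with hB
  have hzsum : ∑ k ∈ range p, z ^ k = 0 := by
    have := geom_sum_mul z p
    rw [hz, sub_self] at this
    exact (mul_eq_zero.1 this).resolve_right (sub_ne_zero.2 hz1)
  have hAB : A * A + (q : D) * (B * B) + 1 = 0 := by
    obtain ⟨R, hR⟩ := hdvd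
    have h := congrArg (aeval z) hR
    rw [map_mul, map_sum] at h
    simp only [map_pow, aeval_X, hzsum, zero_mul, map_add, map_mul, map_natCast, map_one, sq] at h
    exact h
  set u := aeval c (C ((a + b) / 2) + C b * X : ℚ[X]) with hu
  set v := aeval c (C ((a - b) / 2) - C b * X : ℚ[X]) with hv
  have huv : u * u + v * v = (q : D) := by
    have hpoly : (C ((a + b) / 2) + C b * X : ℚ[X]) * (C ((a + b) / 2) + C b * X) +
        (C ((a - b) / 2) - C b * X) * (C ((a - b) / 2) - C b * X) =
        C (q : ℚ) + C (2 * b ^ 2) * (X * X + X - 1) := by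
      apply Polynomial.funext
      intro x
      simp only [eval_add, eval_mul, eval_sub, eval_C, eval_X, eval_one]
      linear_combination (-1 / 2 : ℚ) * hab
    have h := congrArg (aeval c) hpoly
    simp only [map_add, map_mul, map_sub, aeval_X, map_one, hc, mul_zero, add_zero,
      Polynomial.aeval_C, map_natCast] at h
    rw [hu, hv]
    simpa using h
  have hui : Commute i u := commute_aeval hci.symm _
  have huj : Commute j u := commute_aeval hcj.symm _
  have hvi : Commute i v := commute_aeval hci.symm _
  have hvj : Commute j v := commute_aeval hcj.symm _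
  have huv' : Commute u v := commute_aeval (commute_aeval (Commute.refl c) _).symm _
  obtain ⟨t, ht⟩ : ∃ t, t = u * i + v * j := ⟨_, rfl⟩
  obtain ⟨k, hk⟩ : ∃ k, k = i * j := ⟨_, rfl⟩
  have hkk : k * k = -1 := by
    rw [hk, mul_assoc, ← mul_assoc j, hji, neg_mul, mul_neg, mul_assoc, hj, mul_neg, mul_one,
      mul_neg, hi, neg_neg]
  have hki : k * i = -(i * k) := by
    rw [hk, mul_assoc, hji, mul_neg]
  have hkj : k * j = -(j * k) := by
    rw [hk, ← mul_assoc j, hji, neg_mul, neg_neg]
  have htt : t * t = -(q : D) := by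
    rw [ht, add_mul, mul_add, mul_add]
    have e1 : u * i * (u * i) = -(u * u) := by
      rw [mul_assoc, ← mul_assoc i, hui.eq, mul_assoc u i, hi, mul_neg_one, mul_neg]
    have e2 : v * j * (v * j) = -(v * v) := by
      rw [mul_assoc, ← mul_assoc j, hvj.eq, mul_assoc v j, hj, mul_neg_one, mul_neg]
    have e3 : u * i * (v * j) = u * v * (i * j) := by
      rw [mul_assoc, ← mul_assoc i, hvi.eq]; simp only [mul_assoc]
    have e4 : v * j * (u * i) = -(u * v * (i * j)) := by
      rw [mul_assoc, ← mul_assoc j, huj.eq, mul_assoc u, hji, mul_neg, mul_neg, ← mul_assoc,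
        huv'.symm.eq]
    rw [e1, e2, e3, e4, ← huv]
    abel
  have hku : Commute k u := hk ▸ hui.mul_left huj
  have hkv : Commute k v := hk ▸ hvi.mul_left hvj
  have hkt : k * t = -(t * k) := by
    rw [ht, mul_add, add_mul, ← mul_assoc, hku.eq, mul_assoc u, hki, ← mul_assoc k, hkv.eq,
      mul_assoc v, hkj, mul_neg, mul_neg, neg_add]
    simp only [mul_assoc]
  have hzt : Commute z t := by
    rw [ht]
    refine Commute.add_right ?_ ?_
    · exact (commute_aeval hzc _).mul_right hzi
    · exact (commute_aeval hzc _).mul_right hzj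
  have hzk : Commute z k := hk ▸ hzi.mul_right hzj
  have hAt : Commute A t := (commute_aeval hzt.symm _).symm
  have hBt : Commute B t := (commute_aeval hzt.symm _).symm
  have hAk : Commute A k := (commute_aeval hzk.symm _).symm
  have hBk : Commute B k := (commute_aeval hzk.symm _).symm
  have hAB' : Commute A B := commute_aeval (commute_aeval (Commute.refl z) _).symm _
  obtain ⟨w, hw⟩ : ∃ w, w = B * t + k := ⟨_, rfl⟩
  have hww : w * w = A * A := by
    have e1 : B * t * (B * t) = -((q : D) * (B * B)) := by
      rw [mul_assoc, ← mul_assoc t, hBt.symm.eq, mul_assoc B t, htt, ← mul_assoc, mul_neg,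
        (Nat.cast_commute q (B * B)).eq]
    have e2 : k * (B * t) = -(B * t * k) := by
      rw [← mul_assoc, hBk.symm.eq, mul_assoc, hkt, mul_neg, ← mul_assoc]
    rw [hw, add_mul, mul_add, mul_add, e1, e2, hkk]
    have : A * A = -((q : D) * (B * B)) - 1 := by linear_combination (norm := abel) hAB
    rw [this]
    abel
  have hwA : Commute w A := hw ▸ (hAB'.symm.mul_left hAt.symm).add_left hAk.symm
  have hwk : Commute w k := by
    have : (w - A) * (w + A) = 0 := by
      rw [sub_mul, mul_add, mul_add, hww, hwA.eq]; abel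
    rcases mul_eq_zero.1 this with h | h
    · rw [sub_eq_zero.1 h]; exact hAk
    · rw [eq_neg_of_add_eq_zero_left h]; exact hAk.neg_left
  have hk0 : k ≠ 0 := fun e => by rw [e, mul_zero] at hkk; exact one_ne_zero (neg_eq_zero.1 hkk.symm)
  have ht0 : t ≠ 0 := fun e => by
    rw [e, mul_zero] at htt
    exact (Nat.cast_ne_zero.2 hq.ne_zero) (neg_eq_zero.1 htt.symm)
  have hB0 : B = 0 := by
    have e := hwk.eq
    rw [hw, add_mul, mul_add, add_left_inj, ← mul_assoc, hBk.symm.eq, mul_assoc, mul_assoc, hkt,
      mul_neg, eq_neg_iff_add_eq_zero, ← mul_add, ← two_mul] at e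
    rcases mul_eq_zero.1 e with h | h
    · exact h
    · exact absurd h (mul_ne_zero two_ne_zero (mul_ne_zero ht0 hk0))
  rw [hw, hB0, zero_mul, zero_add] at hww
  have hkA : k = A ∨ k = -A := by
    have : (k - A) * (k + A) = 0 := by
      rw [sub_mul, mul_add, mul_add, hww, hAk.eq]; abel
    rcases mul_eq_zero.1 this with h | h
    · exact Or.inl (sub_eq_zero.1 h)
    · exact Or.inr (eq_neg_of_add_eq_zero_left h)
  have hAi : Commute A i := (commute_aeval hzi.symm _).symm
  have hi0 : i ≠ 0 := fun e => by rw [e, mul_zero] at hi; exact one_ne_zero (neg_eq_zero.1 hi.symm)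
  have hki' : Commute k i := by
    rcases hkA with h | h <;> rw [h]
    · exact hAi
    · exact hAi.neg_left
  rw [hki'.eq, eq_neg_iff_add_eq_zero, ← two_mul] at hki
  exact mul_ne_zero two_ne_zero (mul_ne_zero hi0 hk0) hki

theorem false_of_swap {h c : D} (hh : h * h = -1) (hc : c * c + c - 1 = 0)
    (hhc : h * c = (-1 - c) * h) : False := by
  have hr : (2 * c + 1) * (2 * c + 1) = 5 := by
    have : (2 * c + 1) * (2 * c + 1) = 4 * (c * c + c) + 1 := by noncomm_ring
    rw [this, sub_eq_zero.1 hc]; norm_num
  have hhr : h * (2 * c + 1) = -((2 * c + 1) * h) := by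
    have : h * (2 * c + 1) = 2 * (h * c) + h := by noncomm_ring
    rw [this, hhc]; noncomm_ring
  set r := 2 * c + 1
  set x := 2 * h + r with hx
  have hx2 : x * x = 1 := by
    have : x * x = 4 * (h * h) + r * r + 2 * (h * r + r * h) := by rw [hx]; noncomm_ring
    rw [this, hh, hr, hhr]; norm_num
  have hxr : Commute x r := by
    rcases mul_self_eq_one_iff.1 hx2 with e | e <;> rw [e]
    · exact Commute.one_left r
    · exact (Commute.one_left r).neg_left
  have e : h * r = r * h := by
    have := hxr.eq
    rw [hx] at this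
    have h2 : (2 : D) * (h * r - r * h) = 0 := by
      have : (2 * h + r) * r - r * (2 * h + r) = 0 := sub_eq_zero.2 this
      rw [← this]; noncomm_ring
    exact sub_eq_zero.1 ((mul_eq_zero.1 h2).resolve_left two_ne_zero)
  rw [e, eq_neg_iff_add_eq_zero, ← two_mul] at hhr
  have hh0 : h ≠ 0 := fun e => by rw [e, mul_zero] at hh; exact one_ne_zero (neg_eq_zero.1 hh.symm)
  have hr0 : r ≠ 0 := fun e => by rw [e, mul_zero] at hr; exact OfNat.ofNat_ne_zero 5 hr.symm
  exact mul_ne_zero two_ne_zero (mul_ne_zero hr0 hh0) hhr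

end Cfsg.Agent.Lie.Amitsur
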