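import Mathlib

/-!
Elementary facts about `SL(2,5)` used for Amitsur's theorem.
-/

set_option autoImplicit false

namespace Cfsg.Agent.Lie.Amitsur

instance : Fact (Nat.Prime 5) := ⟨Nat.prime_five⟩

abbrev SLFive := Matrix.SpecialLinearGroup (Fin 2) (ZMod 5)

def upperFive (x : ZMod 5) : SLFive := ⟨!![1, x; 0, 1], by simp [Matrix.det_fin_two]⟩
def lowerFive (y : ZMod 5) : SLFive := ⟨!![1, 0; y, 1], by simp [Matrix.det_fin_two]⟩
def wFive : SLFive := ⟨!![0, 1; 4, 0], by decide⟩
def dFive : SLFive := ⟨!![2, 0; 0, 3], by decide⟩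
def tFive : SLFive := ⟨!![0, 4; 1, 4], by decide⟩

theorem upperFive_val (x : ZMod 5) : (upperFive x).1 = !![1, x; 0, 1] := rfl
theorem lowerFive_val (y : ZMod 5) : (lowerFive y).1 = !![1, 0; y, 1] := rfl
theorem wFive_val : wFive.1 = !![0, 1; 4, 0] := rfl
theorem dFive_val : dFive.1 = !![2, 0; 0, 3] := rfl

theorem ext_entries {X Y : SLFive} (h₁ : X.1 0 0 = Y.1 0 0) (h₂ : X.1 0 1 = Y.1 0 1)
    (h₃ : X.1 1 0 = Y.1 1 0) (h₄ : X.1 1 1 = Y.1 1 1) : X = Y := by
  apply Subtype.ext
  ext i j
  fin_cases i <;> fin_cases j <;> assumption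

theorem entries_mul (X Y : SLFive) :
    (X * Y).1 0 0 = X.1 0 0 * Y.1 0 0 + X.1 0 1 * Y.1 1 0 ∧
    (X * Y).1 0 1 = X.1 0 0 * Y.1 0 1 + X.1 0 1 * Y.1 1 1 ∧
    (X * Y).1 1 0 = X.1 1 0 * Y.1 0 0 + X.1 1 1 * Y.1 1 0 ∧
    (X * Y).1 1 1 = X.1 1 0 * Y.1 0 1 + X.1 1 1 * Y.1 1 1 := by
  simp [Matrix.mul_apply, Fin.sum_univ_two]

theorem det_entries (X : SLFive) : X.1 0 0 * X.1 1 1 - X.1 0 1 * X.1 1 0 = 1 := by
  have h := X.2
  rwa [Matrix.det_fin_two] at h

theorem upperFive_add (x y : ZMod 5) : upperFive (x + y) = upperFive x * upperFive y := by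
  apply ext_entries <;> simp [upperFive_val, add_comm, Matrix.mul_apply, Fin.sum_univ_two]

theorem upperFive_zero : upperFive 0 = 1 := by
  apply ext_entries <;> simp [upperFive_val, Matrix.mul_apply, Fin.sum_univ_two]

theorem upperFive_pow (x : ZMod 5) (n : ℕ) : upperFive x ^ n = upperFive (n * x) := by
  induction n with
  | zero => simp [upperFive_zero]
  | succ n ih => rw [pow_succ, ih, ← upperFive_add]; push_cast; ring_nf

theorem upperFive_eq_pow (x : ZMod 5) : upperFive x = upperFive 4 ^ (4 * x).val := by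
  rw [upperFive_pow, ZMod.natCast_zmod_val]
  congr 1
  have h : ((16 : ℕ) : ZMod 5) = 1 := by decide
  linear_combination (-x) * h

theorem lowerFive_pow_one (n : ℕ) : lowerFive 1 ^ n = lowerFive n := by
  induction n with
  | zero => apply ext_entries <;> simp [lowerFive_val, Matrix.mul_apply, Fin.sum_univ_two]
  | succ n ih =>
    rw [pow_succ, ih]
    apply ext_entries <;> simp [lowerFive_val, Matrix.mul_apply, Fin.sum_univ_two]

/-- A subgroup containing both standard transvections is everything. -/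
theorem eq_top_of_mem {K : Subgroup SLFive} (hu : upperFive 4 ∈ K) (hl : lowerFive 1 ∈ K) : K = ⊤ := by
  have hU : ∀ x, upperFive x ∈ K := fun x => upperFive_eq_pow x ▸ pow_mem hu _
  have hL : ∀ y, lowerFive y ∈ K := fun y => by
    rw [show y = ((y.val : ℕ) : ZMod 5) from (ZMod.natCast_zmod_val y).symm, ← lowerFive_pow_one]
    exact pow_mem hl _
  have key : ∀ X : SLFive, X.1 1 0 ≠ 0 → X ∈ K := by
    intro X hc
    have hd := det_entries X
    have e : X = upperFive ((X.1 0 0 - 1) / X.1 1 0) * lowerFive (X.1 1 0) *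
        upperFive ((X.1 1 1 - 1) / X.1 1 0) := by
      apply ext_entries <;> simp [upperFive_val, lowerFive_val, Matrix.mul_apply, Fin.sum_univ_two] <;> field_simp <;>
        first
          | ring1
          | linear_combination hd
          | linear_combination (-1 : ZMod 5) * hd
    rw [e]; exact mul_mem (mul_mem (hU _) (hL _)) (hU _)
  rw [eq_top_iff]
  intro X _
  by_cases hc : X.1 1 0 = 0
  · have hd : X.1 1 1 ≠ 0 := fun e => by
      have := det_entries X; rw [hc, e] at this; simp at this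
    have h2 : (X * lowerFive 1).1 1 0 = X.1 1 1 := by simp [lowerFive_val, hc, Matrix.mul_apply, Fin.sum_univ_two]
    have := key (X * lowerFive 1) (h2 ▸ hd)
    exact (mul_mem_cancel_right hl).1 this
  · exact key X hc

theorem trace_of_pow_five {X : SLFive} (h : X ^ 5 = 1) : X.1 0 0 + X.1 1 1 = 2 := by
  have e : (X.1 - 1) ^ 5 = 0 := by
    rw [sub_pow_char_of_commute 5 (Commute.one_right _), one_pow,
      ← Matrix.SpecialLinearGroup.coe_pow, h, Matrix.SpecialLinearGroup.coe_one, sub_self]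
  have hd : (X.1 - 1).det = 0 := by
    have := congrArg Matrix.det e
    rw [Matrix.det_pow, Matrix.det_zero] at this
    exact pow_eq_zero_iff (by norm_num) |>.1 this
  rw [Matrix.det_fin_two] at hd
  simp at hd
  linear_combination -hd + det_entries X

/-- Elements of order five are upper unitriangular or conjugates of lower ones. -/
theorem five_cases {X : SLFive} (h : X ^ 5 = 1) :
    (∃ x, X = upperFive x) ∨
      ∃ x y, y ≠ 0 ∧ X = upperFive x * lowerFive y * upperFive (-x) := by
  have ht := trace_of_pow_five h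
  have hd := det_entries X
  by_cases hc : X.1 1 0 = 0
  · left
    refine ⟨X.1 0 1, ?_⟩
    have h2 : (X.1 0 0 - 1) ^ 2 = 0 := by
      rw [hc] at hd
      linear_combination X.1 0 0 * ht - hd
    have h00 := sub_eq_zero.1 (pow_eq_zero_iff (by norm_num) |>.1 h2)
    apply ext_entries <;> simp [upperFive_val, h00, hc, Matrix.mul_apply, Fin.sum_univ_two]
    linear_combination ht - h00
  · right
    refine ⟨(X.1 0 0 - 1) / X.1 1 0, X.1 1 0, hc, ?_⟩
    apply ext_entries <;> simp [upperFive_val, lowerFive_val, Matrix.mul_apply, Fin.sum_univ_two] <;> field_simp <;>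
      first
        | ring1
        | linear_combination ht
        | linear_combination -ht
        | linear_combination hd - (X.1 0 0) * ht
        | linear_combination (X.1 0 0) * ht - hd
        | linear_combination hd - (X.1 0 0 - 1) * ht
        | linear_combination (X.1 0 0 - 1) * ht - hd

theorem wFive_conj (y : ZMod 5) : wFive⁻¹ * lowerFive y * wFive = upperFive (-y) := by
  rw [mul_assoc, inv_mul_eq_iff_eq_mul]
  apply ext_entries <;> simp [upperFive_val, lowerFive_val, wFive_val, Matrix.mul_apply, Fin.sum_univ_two]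
  have h5 : (5 : ZMod 5) = 0 := rfl
  linear_combination y * h5

theorem centralizer_upper {X : SLFive} (h : X * upperFive 4 = upperFive 4 * X) :
    X ^ 10 = 1 := by
  obtain ⟨-, h01, -, h11⟩ := entries_mul X (upperFive 4)
  obtain ⟨-, g01, -, g11⟩ := entries_mul (upperFive 4) X
  rw [h] at h01 h11
  simp only [upperFive_val, Matrix.of_apply, Matrix.cons_val', Matrix.cons_val_zero, Matrix.cons_val_one,
    Matrix.empty_val', Matrix.cons_val_fin_one] at h01 h11 g01 g11
  have h4 : (4 : ZMod 5) ≠ 0 := by decide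
  have hc : X.1 1 0 = 0 := by
    refine (mul_eq_zero.1 (?_ : X.1 1 0 * 4 = 0)).resolve_right h4
    linear_combination g11 - h11
  have had : X.1 0 0 = X.1 1 1 := by
    refine sub_eq_zero.1 ((mul_eq_zero.1 (?_ : (X.1 0 0 - X.1 1 1) * 4 = 0)).resolve_right h4)
    linear_combination g01 - h01
  have hd := det_entries X
  rw [hc, ← had] at hd
  have e : X * X = upperFive (2 * X.1 0 0 * X.1 0 1) := by
    obtain ⟨a, b, c, d⟩ := entries_mul X X
    apply ext_entries <;> simp only [a, b, c, d] <;> simp [upperFive_val, hc, ← had, Matrix.mul_apply, Fin.sum_univ_two] <;>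
      first
        | linear_combination hd
        | ring1
  rw [show X ^ 10 = (X * X) ^ 5 by rw [← sq, ← pow_mul], e, upperFive_pow]
  rw [show ((5 : ℕ) : ZMod 5) = 0 from rfl, zero_mul, upperFive_zero]

theorem conj_upper_entries (x y : ZMod 5) (X : SLFive) :
    (upperFive x * X * upperFive y).1 0 0 = X.1 0 0 + x * X.1 1 0 ∧
    (upperFive x * X * upperFive y).1 0 1 = (X.1 0 0 + x * X.1 1 0) * y + (X.1 0 1 + x * X.1 1 1) ∧
    (upperFive x * X * upperFive y).1 1 0 = X.1 1 0 ∧
    (upperFive x * X * upperFive y).1 1 1 = X.1 1 0 * y + X.1 1 1 := by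
  obtain ⟨a, b, c, d⟩ := entries_mul (upperFive x) X
  obtain ⟨a', b', c', d'⟩ := entries_mul (upperFive x * X) (upperFive y)
  rw [a', b', c', d', a, b, c, d]
  simp [upperFive_val]

theorem inverts_upper {X : SLFive} (h : X * upperFive 4 = upperFive 1 * X) :
    ∃ x, upperFive x * X * upperFive (-x) = dFive ∨ upperFive x * X * upperFive (-x) = dFive⁻¹ := by
  obtain ⟨-, h01, -, h11⟩ := entries_mul X (upperFive 4)
  obtain ⟨-, g01, -, g11⟩ := entries_mul (upperFive 1) X
  rw [h] at h01 h11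
  simp only [upperFive_val, Matrix.of_apply, Matrix.cons_val', Matrix.cons_val_zero, Matrix.cons_val_one,
    Matrix.empty_val', Matrix.cons_val_fin_one] at h01 h11 g01 g11
  have hc : X.1 1 0 = 0 := by
    have h4 : (4 : ZMod 5) ≠ 0 := by decide
    refine (mul_eq_zero.1 (?_ : X.1 1 0 * 4 = 0)).resolve_right h4
    linear_combination g11 - h11
  have h11' : X.1 1 1 = X.1 0 0 * 4 := by linear_combination h01 - g01
  have hd := det_entries X
  rw [hc, h11'] at hd
  have ha : X.1 0 0 = 2 ∨ X.1 0 0 = 3 := by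
    have : ∀ a : ZMod 5, a * (a * 4) = 1 → a = 2 ∨ a = 3 := by decide
    exact this _ (by linear_combination hd)
  have hval : ∀ x : ZMod 5, (upperFive x * X * upperFive (-x)).1 0 1 =
      X.1 0 1 + 3 * X.1 0 0 * x := by
    intro x
    rw [(conj_upper_entries x (-x) X).2.1, hc, h11']
    ring
  have hsol : ∀ a b : ZMod 5, a = 2 ∨ a = 3 → ∃ x, b + 3 * a * x = 0 := by decide
  obtain ⟨x, hx⟩ := hsol _ (X.1 0 1) ha
  obtain ⟨e00, -, e10, e11⟩ := conj_upper_entries x (-x) X
  refine ⟨x, ?_⟩
  rcases ha with h2 | h2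
  · left
    apply ext_entries
    · rw [e00, hc, h2]; simp [dFive_val]
    · rw [hval, hx]; rfl
    · rw [e10, hc]; simp [dFive_val]
    · rw [e11, hc, h11', h2]; simp [dFive_val]; decide
  · right
    rw [show dFive⁻¹ = ⟨!![3, 0; 0, 2], by decide⟩ from inv_eq_of_mul_eq_one_right (by decide)]
    apply ext_entries
    · rw [e00, hc, h2]; simp
    · rw [hval, hx]; rfl
    · rw [e10, hc]; simp
    · rw [e11, hc, h11', h2]; simp; decide

theorem anticommute_dFive {X : SLFive} (h : X * dFive = dFive⁻¹ * X) :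
    X = wFive ∨ X = wFive⁻¹ ∨ X = wFive * dFive ∨ X = wFive * dFive⁻¹ := by
  rw [show dFive⁻¹ = ⟨!![3, 0; 0, 2], by decide⟩ from inv_eq_of_mul_eq_one_right (by decide)] at h ⊢
  obtain ⟨a, -, -, d⟩ := entries_mul X dFive
  obtain ⟨a', -, -, d'⟩ := entries_mul (⟨!![3, 0; 0, 2], by decide⟩ : SLFive) X
  rw [h, a'] at a
  rw [h, d'] at d
  simp only [dFive_val, Matrix.of_apply, Matrix.cons_val', Matrix.cons_val_zero, Matrix.cons_val_one,
    Matrix.empty_val', Matrix.cons_val_fin_one, mul_zero, zero_mul, add_zero, zero_add] at a d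
  have hz : ∀ a : ZMod 5, a * 2 = 3 * a → a = 0 := by decide
  have h00 := hz _ a.symm
  have h11 : X.1 1 1 = 0 := by
    have : ∀ a : ZMod 5, a * 3 = 2 * a → a = 0 := by decide
    exact this _ d.symm
  have hd := det_entries X
  rw [h00, h11] at hd
  have hbc : ∀ b c : ZMod 5, 0 * 0 - b * c = 1 →
      (b = 1 ∧ c = 4) ∨ (b = 4 ∧ c = 1) ∨ (b = 3 ∧ c = 3) ∨ (b = 2 ∧ c = 2) := by decide
  rw [show wFive⁻¹ = ⟨!![0, 4; 1, 0], by decide⟩ from inv_eq_of_mul_eq_one_right (by decide)]
  rcases hbc _ _ hd with ⟨hb, hc⟩ | ⟨hb, hc⟩ | ⟨hb, hc⟩ | ⟨hb, hc⟩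
  · left; apply ext_entries <;> simp [wFive_val, h00, h11, hb, hc, Matrix.mul_apply, Fin.sum_univ_two]
  · right; left; apply ext_entries <;> simp [h00, h11, hb, hc]
  · right; right; left; apply ext_entries <;> simp [wFive_val, dFive_val, h00, h11, hb, hc, Matrix.mul_apply, Fin.sum_univ_two] <;> decide
  · right; right; right; apply ext_entries <;> simp [wFive_val, h00, h11, hb, hc, Matrix.mul_apply, Fin.sum_univ_two] <;> decide

end Cfsg.Agent.Lie.Amitsur
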