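import Cfsg.Agent.Lib.Lie.Amitsur.Algebra
import Cfsg.Agent.Lib.Lie.Amitsur.SLFive

/-!
Amitsur: `SL(2,5)` is neither extended by an outer element, nor centralised by an element of
prime order `p ≥ 7`, inside the multiplicative group of a division ring.
-/

set_option autoImplicit false

namespace Cfsg.Agent.Lie.Amitsur

/-- In positive characteristic a finite multiplicative group is commutative. -/
theorem commute_of_charP {D : Type*} [DivisionRing D] (c : ℕ) [Fact c.Prime] [CharP D c]
    {H : Type*} [Group H] [Finite H] (f : H →* D) (hf : Function.Injective f) (a b : H) :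
    a * b = b * a := by
  letI := ZMod.algebra D c
  set K := Algebra.adjoin (ZMod c) (Set.range f) with hK
  haveI : FiniteDimensional (ZMod c) K := by
    have : K.toSubmodule = Submodule.span (ZMod c) (Set.range f) := by
      rw [hK, Algebra.adjoin_eq_span, ← MonoidHom.coe_mrange, Submonoid.closure_eq]
    have h : FiniteDimensional (ZMod c) K.toSubmodule := by
      rw [this]; exact FiniteDimensional.span_of_finite _ (Set.finite_range f)
    exact h
  haveI : Finite K := Module.finite_of_finite (ZMod c)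
  have hcomm := (Finite.isDomain_to_isField K).mul_comm
    ⟨f a, Algebra.subset_adjoin ⟨a, rfl⟩⟩ ⟨f b, Algebra.subset_adjoin ⟨b, rfl⟩⟩
  exact hf (by rw [map_mul, map_mul]; exact congrArg Subtype.val hcomm)

section

variable {D : Type*} [DivisionRing D] (φ : SLFive →* D)

theorem map_neg_one (hφ : Function.Injective φ) : φ (-1) = -1 := by
  have h : φ (-1) * φ (-1) = 1 := by rw [← map_mul]; simp
  refine (mul_self_eq_one_iff.1 h).resolve_left fun e => ?_
  exact absurd (hφ (e.trans (map_one φ).symm)) (by decide)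

/-- The central element `u + u⁻¹` of the icosian algebra, `u` of order five. -/
def centre : D := φ (upperFive 4) + φ (upperFive 1)

theorem geom_five (hφ : Function.Injective φ) :
    1 + φ (upperFive 4) + φ (upperFive 3) + φ (upperFive 2) + φ (upperFive 1) = 0 := by
  have h5 : φ (upperFive 4) ^ 5 = 1 := by
    rw [← map_pow, upperFive_pow, show ((5 : ℕ) : ZMod 5) = 0 from rfl, zero_mul, upperFive_zero,
      map_one]
  have h1 : φ (upperFive 4) ≠ 1 := fun e => absurd (hφ (e.trans (map_one φ).symm)) (by decide)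
  have := geom_sum_mul (φ (upperFive 4)) 5
  rw [h5, sub_self] at this
  have hs := (mul_eq_zero.1 this).resolve_right (sub_ne_zero.2 h1)
  simp only [Finset.sum_range_succ, Finset.sum_range_zero, zero_add, pow_zero, pow_one] at hs
  simp only [← map_pow, upperFive_pow] at hs
  rw [show ((2 : ℕ) : ZMod 5) * 4 = 3 from rfl, show ((3 : ℕ) : ZMod 5) * 4 = 2 from rfl,
    show ((4 : ℕ) : ZMod 5) * 4 = 1 from rfl] at hs
  exact hs

theorem centre_quadratic (hφ : Function.Injective φ) :
    centre φ * centre φ + centre φ - 1 = 0 := by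
  have h := geom_five φ hφ
  have hmul : ∀ x y, φ (upperFive x) * φ (upperFive y) = φ (upperFive (x + y)) := fun x y => by
    rw [← map_mul, ← upperFive_add]
  rw [centre, add_mul, mul_add, mul_add, hmul, hmul, hmul, hmul,
    show (4 : ZMod 5) + 4 = 3 from rfl, show (4 : ZMod 5) + 1 = 0 from rfl,
    show (1 : ZMod 5) + 4 = 0 from rfl, show (1 : ZMod 5) + 1 = 2 from rfl, upperFive_zero, map_one]
  rw [← h]
  abel

theorem commute_centre (hφ : Function.Injective φ) (X : SLFive) : Commute (centre φ) (φ X) := by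
  have hm := map_neg_one φ hφ
  have ht3 : φ tFive ^ 3 = 1 := by
    rw [← map_pow, show tFive ^ 3 = 1 by decide, map_one]
  have ht1 : φ tFive ≠ 1 := fun e => absurd (hφ (e.trans (map_one φ).symm)) (by decide)
  have hs := geom_sum_mul (φ tFive) 3
  rw [ht3, sub_self] at hs
  have hts := (mul_eq_zero.1 hs).resolve_right (sub_ne_zero.2 ht1)
  simp only [Finset.sum_range_succ, Finset.sum_range_zero, zero_add, pow_zero, pow_one, sq] at hts
  have hss : φ wFive * φ wFive = -1 := by
    rw [← map_mul, show wFive * wFive = -1 by decide, hm]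
  have htinv : φ tFive⁻¹ = -1 - φ tFive := by
    rw [show tFive⁻¹ = tFive * tFive from inv_eq_of_mul_eq_one_right (by decide), map_mul,
      eq_sub_iff_add_eq, eq_neg_iff_add_eq_zero, ← hts]
    abel
  have hsinv : φ wFive⁻¹ = -φ wFive := by
    rw [show wFive⁻¹ = -1 * wFive from inv_eq_of_mul_eq_one_right (by decide), map_mul, hm,
      neg_one_mul]
  have hc : centre φ = φ wFive * φ tFive + φ wFive + φ tFive * φ wFive := by
    rw [centre, show upperFive 4 = wFive * tFive by decide,
      show upperFive 1 = tFive⁻¹ * wFive⁻¹ by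
        rw [← mul_inv_rev]; exact (inv_eq_of_mul_eq_one_right (by decide)).symm,
      map_mul, map_mul, htinv, hsinv]
    noncomm_ring
  set s := φ wFive
  set t := φ tFive
  have htt : t * t = -1 - t := by
    rw [eq_sub_iff_add_eq, eq_neg_iff_add_eq_zero, ← hts]; abel
  have h1 : Commute (centre φ) s := by
    show _ * _ = _ * _
    rw [hc]
    simp only [add_mul, mul_add, mul_assoc, hss, mul_neg, mul_one]
    rw [← mul_assoc s s t, hss, neg_one_mul]
    abel
  have h2 : Commute (centre φ) t := by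
    show _ * _ = _ * _
    rw [hc]
    simp only [add_mul, mul_add, mul_assoc, htt]
    rw [← mul_assoc t t s, htt]
    simp only [sub_mul, mul_sub, mul_neg, neg_mul, one_mul, mul_one]
    abel
  let K : Subgroup SLFive :=
    { carrier := {Y | Commute (centre φ) (φ Y)}
      one_mem' := by simp only [Set.mem_ofPred_eq, map_one]; exact Commute.one_right _
      mul_mem' := fun {a b} ha hb => by
        simp only [Set.mem_ofPred_eq, map_mul] at ha hb ⊢; exact ha.mul_right hb
      inv_mem' := fun {a} ha => by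
        simp only [Set.mem_ofPred_eq] at ha ⊢
        rw [show φ a⁻¹ = (φ a)⁻¹ from eq_inv_of_mul_eq_one_left (by rw [← map_mul, inv_mul_cancel, map_one])]
        exact ha.inv_right₀ }
  have hw : wFive ∈ K := h1
  have htm : tFive ∈ K := h2
  have hu : upperFive 4 ∈ K := by
    rw [show upperFive 4 = wFive * tFive by decide]; exact mul_mem hw htm
  have hl : lowerFive 1 ∈ K := by
    rw [show lowerFive 1 = wFive * upperFive 4 * wFive⁻¹ by
      rw [eq_mul_inv_iff_mul_eq]; decide]
    exact mul_mem (mul_mem hw hu) (inv_mem hw)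
  exact (eq_top_of_mem hu hl ▸ Subgroup.mem_top X : X ∈ K)

/-- No element of prime order `p ≥ 7` centralises `SL(2,5)`. -/
theorem no_central_prime [CharZero D] (hφ : Function.Injective φ) {z : D}
    (hz : ∀ X, Commute z (φ X)) {p : ℕ} (hp : p.Prime) (h7 : 7 ≤ p) (hzp : z ^ p = 1) :
    z = 1 := by
  by_contra hz1
  refine false_of_quadratic (i := φ wFive) (j := φ dFive) (c := centre φ) ?_ ?_ ?_
    (commute_centre φ hφ _) (commute_centre φ hφ _) (centre_quadratic φ hφ) (hz _) (hz _)
    ((hz _).add_right (hz _)) hp h7 hzp hz1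
  · rw [← map_mul, show wFive * wFive = -1 by decide, map_neg_one φ hφ]
  · rw [← map_mul, show dFive * wFive = -1 * (wFive * dFive) by decide, map_mul,
      map_neg_one φ hφ, neg_one_mul, map_mul]
  · rw [← map_mul, show dFive * dFive = -1 by decide, map_neg_one φ hφ]

end

variable {D : Type*} [DivisionRing D] {H : Type*} [Group H]

theorem conj_comm_helper {H : Type*} [Group H] (a g u : H) :
    a * g * u * (a * g)⁻¹ = a * (g * u * g⁻¹) * a⁻¹ := by group

theorem sq_comm_helper {H : Type*} [Group H] (s g : H) :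
    s * g * (s * g) = s * (g * s * g⁻¹) * (g * g) := by group

theorem dFive_upper : ∀ x : ZMod 5, dFive * upperFive x = upperFive (4 * x) * dFive := by decide

theorem cases_four : ∀ x : ZMod 5, x ≠ 0 → x = 4 ∨ x = 2 ∨ 4 * x = 4 ∨ 4 * x = 2 := by decide

theorem conj_lower_upper (x y : ZMod 5) :
    wFive⁻¹ * upperFive (-x) * (upperFive x * lowerFive y * upperFive (-x)) *
      (wFive⁻¹ * upperFive (-x))⁻¹ = upperFive (-y) := by
  have hinv : upperFive (-x) = (upperFive x)⁻¹ := (inv_eq_of_mul_eq_one_right (by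
    rw [← upperFive_add, add_neg_cancel, upperFive_zero])).symm
  rw [hinv, ← wFive_conj y]
  simp only [mul_inv_rev, inv_inv, mul_assoc, inv_mul_cancel_left]

theorem conj_lower_pow (x y : ZMod 5) :
    (upperFive x * lowerFive y * upperFive (-x)) ^ y.val =
      upperFive x * lowerFive (y * y) * upperFive (-x) := by
  have hinv : upperFive (-x) = (upperFive x)⁻¹ := (inv_eq_of_mul_eq_one_right (by
    rw [← upperFive_add, add_neg_cancel, upperFive_zero])).symm
  have hy : lowerFive y = lowerFive 1 ^ y.val := by rw [lowerFive_pow_one, ZMod.natCast_zmod_val]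
  rw [hinv, conj_pow]
  conv_lhs => rw [hy, ← pow_mul, lowerFive_pow_one, Nat.cast_mul, ZMod.natCast_zmod_val]

/-- No outer element centralises the transvection. -/
theorem no_outer_commuting [CharZero D] (f : H →* D) (hf : Function.Injective f) (ι : SLFive →* H) (hι : Function.Injective ι)
    (hn : ι.range.Normal) (hi : ι.range.index = 2)
    {g : H} (hg : g ∉ ι.range) (hgu : g * ι (upperFive 4) * g⁻¹ = ι (upperFive 4)) : False := by
  set φ := f.comp ι with hφdef
  have hφ : Function.Injective φ := hf.comp hι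
  have hm := map_neg_one φ hφ
  have hconj : ∀ (h : H) X, ∃ Y, h * ι X * h⁻¹ = ι Y := fun h X => by
    obtain ⟨Y, hY⟩ := hn.conj_mem (ι X) ⟨X, rfl⟩ h
    exact ⟨Y, hY.symm⟩
  have hmul : ∀ a b : H, a * b ∈ ι.range ↔ (a ∈ ι.range ↔ b ∈ ι.range) := fun a b =>
    Subgroup.mul_mem_iff_of_index_two hi
  have hsq : ∀ a : H, ∃ W, a * a = ι W := fun a => by
    obtain ⟨W, hW⟩ := (hmul a a).2 Iff.rfl
    exact ⟨W, hW.symm⟩
  have hout : ∀ {a : H}, a ∉ ι.range → f (a * a) ≠ 1 := by
    intro a ha e
    rw [map_mul] at e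
    rcases mul_self_eq_one_iff.1 e with h | h
    · exact ha ⟨1, hf (by rw [map_one, map_one, h])⟩
    · exact ha ⟨-1, hf (by rw [h, ← hm]; rfl)⟩
  obtain ⟨W, hW⟩ := hsq g
  have hcg : Commute g (ι (upperFive 4)) := mul_inv_eq_iff_eq_mul.1 hgu
  have hWu : W * upperFive 4 = upperFive 4 * W := hι (by
    rw [map_mul, map_mul, ← hW]; exact (hcg.mul_left hcg).eq)
  set g₃ := g ^ 5 with hg₃def
  have hg₃ : g₃ ∉ ι.range := by
    intro h
    rw [hg₃def, show g ^ 5 = g * ((g * g) * (g * g)) by simp only [pow_succ, pow_zero, one_mul, mul_assoc],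
      hmul] at h
    exact hg (h.2 (by rw [hW, ← map_mul]; exact ⟨_, rfl⟩))
  have hg₃u : Commute g₃ (ι (upperFive 4)) := hcg.pow_left 5
  have hsq3 : f (g₃ * g₃) = -1 := by
    have e : f (g₃ * g₃) * f (g₃ * g₃) = 1 := by
      rw [← map_mul, hg₃def, ← pow_add, ← pow_add, show 5 + 5 + (5 + 5) = 2 * 10 from rfl, pow_mul,
        sq, hW, ← map_pow, centralizer_upper hWu, map_one, map_one]
    exact (mul_self_eq_one_iff.1 e).resolve_left (hout hg₃)
  have hcentral : ∀ a : H, Commute (g₃ * g₃) a := fun a => hf (by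
    rw [map_mul, map_mul f a, hsq3, neg_one_mul, mul_neg_one])
  obtain ⟨V, hV⟩ := hconj g₃ (lowerFive 1)
  have hv5 : lowerFive 1 ^ 5 = 1 := by decide
  have hV5 : V ^ 5 = 1 := hι (by
    rw [map_pow, ← hV, conj_pow, ← map_pow, hv5, map_one, mul_one, mul_inv_cancel])
  have hUfix : ∀ y, g₃ * ι (upperFive y) * g₃⁻¹ = ι (upperFive y) := fun y => by
    rw [upperFive_eq_pow y, map_pow, (hg₃u.pow_right _).eq, mul_inv_cancel_right]
  have hback : g₃ * ι V * g₃⁻¹ = ι (lowerFive 1) := by
    rw [← hV]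
    calc g₃ * (g₃ * ι (lowerFive 1) * g₃⁻¹) * g₃⁻¹
        = (g₃ * g₃) * ι (lowerFive 1) * (g₃ * g₃)⁻¹ := by group
      _ = _ := by rw [(hcentral _).eq, mul_inv_cancel_right]
  have hV1 : g₃ * ι (lowerFive 1) * g₃⁻¹ = ι (lowerFive 1) := by
    rcases five_cases hV5 with ⟨y, rfl⟩ | ⟨x, y, -, rfl⟩
    · rw [hUfix] at hback
      exact absurd (congrArg (fun Y : SLFive => Y.1 1 0) (hι hback)) (by
        simp [upperFive_val, lowerFive_val])
    · have e2 : ι (upperFive (x + x) * lowerFive (y * y) * upperFive (-x + -x)) = ι (lowerFive 1) := by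
        rw [← hback, map_mul ι _ (upperFive (-x)), map_mul ι (upperFive x),
          show lowerFive y = lowerFive 1 ^ y.val by rw [lowerFive_pow_one, ZMod.natCast_zmod_val]]
        have e3 : g₃ * ι (lowerFive 1 ^ y.val) * g₃⁻¹ =
            ι (upperFive x) * ι (lowerFive (y * y)) * ι (upperFive (-x)) := by
          rw [map_pow, ← conj_pow, hV, ← map_pow, ← map_mul, ← map_mul, conj_lower_pow]
        calc ι (upperFive (x + x) * lowerFive (y * y) * upperFive (-x + -x))
            = ι (upperFive x) * (g₃ * ι (lowerFive 1 ^ y.val) * g₃⁻¹) * ι (upperFive (-x)) := by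
              rw [e3, upperFive_add, upperFive_add]; simp only [map_mul, mul_assoc]
          _ = (g₃ * ι (upperFive x) * g₃⁻¹) * (g₃ * ι (lowerFive 1 ^ y.val) * g₃⁻¹) *
                (g₃ * ι (upperFive (-x)) * g₃⁻¹) := by rw [hUfix, hUfix]
          _ = _ := by group
      have key : x = 0 ∧ (y = 1 ∨ y = -1) := by
        have e4 := hι e2
        obtain ⟨a, -, c, -⟩ := conj_upper_entries (x + x) (-x + -x) (lowerFive (y * y))
        rw [e4] at a c
        simp [lowerFive_val] at a c
        have : ∀ x y : ZMod 5, (x + x = 0 ∨ y = 0) → 1 = y * y → x = 0 ∧ (y = 1 ∨ y = -1) := by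
          decide
        exact this x y a c
      obtain ⟨rfl, rfl | rfl⟩ := key
      · simpa [upperFive_zero] using hV
      · exfalso
        simp only [neg_zero, upperFive_zero, one_mul, mul_one] at hV
        have h1 : (upperFive 4 * lowerFive 1) ^ 6 = 1 := by decide
        have e : g₃ * ι (upperFive 4 * lowerFive 1) * g₃⁻¹ = ι (upperFive 4 * lowerFive (-1)) := by
          rw [map_mul, map_mul, ← hV, ← mul_assoc g₃, hg₃u.eq]; group
        have := congrArg (· ^ 6) e
        simp only [conj_pow, ← map_pow, h1, map_one, mul_one, mul_inv_cancel] at this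
        exact absurd (hι ((map_one ι).trans this)) (by decide)
  let K : Subgroup SLFive := (Subgroup.centralizer ({g₃} : Set H)).comap ι
  have hK : K = ⊤ := eq_top_of_mem
    (Subgroup.mem_centralizer_singleton_iff.2 hg₃u.eq.symm)
    (Subgroup.mem_centralizer_singleton_iff.2 (mul_inv_eq_iff_eq_mul.1 hV1).symm)
  have hall : ∀ X, Commute (f g₃) (φ X) := fun X => by
    have hX : X ∈ K := hK ▸ Subgroup.mem_top X
    have := (Subgroup.mem_centralizer_singleton_iff.1 hX)
    show f g₃ * f (ι X) = f (ι X) * f g₃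
    rw [← map_mul, ← map_mul, this]
  have hz : (φ wFive - f g₃) * (φ wFive + f g₃) = 0 := by
    rw [sub_mul, mul_add, mul_add, ← map_mul φ, show wFive * wFive = -1 by decide, hm,
      ← map_mul f, hsq3, (hall wFive).eq]
    abel
  have hwd : Commute (φ wFive) (φ dFive) := by
    rcases mul_eq_zero.1 hz with h | h
    · rw [sub_eq_zero.1 h]; exact hall _
    · rw [eq_neg_of_add_eq_zero_left h]; exact (hall _).neg_left
  exact absurd (hφ ((map_mul φ _ _).trans (hwd.eq.trans (map_mul φ _ _).symm))) (by decide)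

/-- No outer element squares the transvection. -/
theorem no_outer_squaring [CharZero D] (f : H →* D) (hf : Function.Injective f) (ι : SLFive →* H) (hι : Function.Injective ι)
    (hn : ι.range.Normal) (hi : ι.range.index = 2)
    {g : H} (hg : g ∉ ι.range) (hgu : g * ι (upperFive 4) * g⁻¹ = ι (upperFive 2)) : False := by
  set φ := f.comp ι with hφdef
  have hφ : Function.Injective φ := hf.comp hι
  have hm := map_neg_one φ hφ
  have hconj : ∀ (h : H) X, ∃ Y, h * ι X * h⁻¹ = ι Y := fun h X => by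
    obtain ⟨Y, hY⟩ := hn.conj_mem (ι X) ⟨X, rfl⟩ h
    exact ⟨Y, hY.symm⟩
  have hmul : ∀ a b : H, a * b ∈ ι.range ↔ (a ∈ ι.range ↔ b ∈ ι.range) := fun a b =>
    Subgroup.mul_mem_iff_of_index_two hi
  have hsq : ∀ a : H, ∃ W, a * a = ι W := fun a => by
    obtain ⟨W, hW⟩ := (hmul a a).2 Iff.rfl
    exact ⟨W, hW.symm⟩
  have hout : ∀ {a : H}, a ∉ ι.range → f (a * a) ≠ 1 := by
    intro a ha e
    rw [map_mul] at e
    rcases mul_self_eq_one_iff.1 e with h | h
    · exact ha ⟨1, hf (by rw [map_one, map_one, h])⟩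
    · exact ha ⟨-1, hf (by rw [h, ← hm]; rfl)⟩
  have hmove : ∀ {a : H} (r : SLFive), a ∉ ι.range → ι r * a ∉ ι.range := fun r ha h => by
    rw [hmul] at h
    exact ha (h.1 ⟨r, rfl⟩)
  have hswap : ∀ {h : H}, h ∉ ι.range → f h * centre φ = (-1 - centre φ) * f h := by
    intro h hh
    obtain ⟨r, hr⟩ : ∃ r, g⁻¹ * h = ι r := by
      have : g⁻¹ * h ∈ ι.range := (hmul _ _).2 (iff_of_false (fun e => hg (inv_mem_iff.1 e)) hh)
      obtain ⟨r, hr⟩ := this
      exact ⟨r, hr.symm⟩
    have e4 : g * ι (upperFive 4) = ι (upperFive 2) * g := mul_inv_eq_iff_eq_mul.1 hgu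
    have e1 : g * ι (upperFive 1) = ι (upperFive 3) * g := by
      have := (show SemiconjBy g (ι (upperFive 4)) (ι (upperFive 2)) from e4).pow_right 4
      rw [← map_pow, ← map_pow, upperFive_pow, upperFive_pow] at this
      exact this
    have hneg : -1 - centre φ = φ (upperFive 2) + φ (upperFive 3) := by
      have := geom_five φ hφ
      rw [centre, sub_eq_iff_eq_add, neg_eq_iff_add_eq_zero, ← this]
      abel
    have hgc : f g * centre φ = (-1 - centre φ) * f g := by
      rw [hneg, centre, mul_add, add_mul]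
      simp only [hφdef, MonoidHom.comp_apply, ← map_mul, e4, e1]
    rw [show h = g * ι r by rw [← hr, mul_inv_cancel_left], map_mul, mul_assoc]
    show f g * (φ r * centre φ) = _
    rw [← (commute_centre φ hφ r).eq, ← mul_assoc, hgc, mul_assoc]
    rfl
  obtain ⟨W, hW⟩ := hsq g
  have hWu : W * upperFive 4 = upperFive 1 * W := hι (by
    rw [map_mul, map_mul, ← hW]
    have e4 : SemiconjBy g (ι (upperFive 4)) (ι (upperFive 2)) := mul_inv_eq_iff_eq_mul.1 hgu
    have e3 := e4.pow_right 3
    rw [← map_pow, ← map_pow, upperFive_pow, upperFive_pow] at e3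
    exact (SemiconjBy.mul_left e3 e4).eq)
  obtain ⟨x, hx2⟩ := inverts_upper hWu
  obtain ⟨g', hg'def⟩ : ∃ g', g' = ι (upperFive x) * g * ι (upperFive (-x)) := ⟨_, rfl⟩
  have hg' : g' ∉ ι.range := fun h => by
    rw [hg'def, hmul, hmul] at h
    exact hg ((h.2 ⟨_, rfl⟩).1 ⟨_, rfl⟩)
  have hnx : ι (upperFive (-x)) * ι (upperFive x) = 1 := by
    rw [← map_mul, ← upperFive_add, neg_add_cancel, upperFive_zero, map_one]
  obtain ⟨W', hW', hW'd⟩ : ∃ W', g' * g' = ι W' ∧ (W' = dFive ∨ W' = dFive⁻¹) := by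
    refine ⟨_, ?_, hx2⟩
    rw [map_mul, map_mul, ← hW, hg'def]
    calc ι (upperFive x) * g * ι (upperFive (-x)) * (ι (upperFive x) * g * ι (upperFive (-x)))
        = ι (upperFive x) * g * (ι (upperFive (-x)) * ι (upperFive x)) * g * ι (upperFive (-x)) := by
          simp only [mul_assoc]
      _ = _ := by rw [hnx, mul_one]; simp only [mul_assoc]
  obtain ⟨Y, hY⟩ := hconj g' wFive
  have hgW : g' * ι W' = ι W' * g' := by rw [← hW', mul_assoc]
  have hYd : Y * dFive = dFive⁻¹ * Y := by
    have hWs : wFive * W' = W'⁻¹ * wFive := by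
      rcases hW'd with rfl | rfl <;> decide
    have e : Y * W' = W'⁻¹ * Y := hι (by
      rw [map_mul, map_mul, map_inv, ← hY]
      have e1 : g'⁻¹ * ι W' = ι W' * g'⁻¹ := ((Commute.inv_left (show Commute g' (ι W') from hgW))).eq
      have e2 : g' * (ι W')⁻¹ = (ι W')⁻¹ * g' := ((show Commute g' (ι W') from hgW).inv_right).eq
      calc g' * ι wFive * g'⁻¹ * ι W' = g' * (ι wFive * ι W') * g'⁻¹ := by
            simp only [mul_assoc, e1]
        _ = _ := by rw [← map_mul, hWs, map_mul, map_inv, ← mul_assoc, e2]; simp only [mul_assoc])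
    rcases hW'd with rfl | rfl
    · exact e
    · rw [inv_inv] at e
      calc Y * dFive = dFive⁻¹ * (dFive * Y) * dFive := by rw [inv_mul_cancel_left]
        _ = dFive⁻¹ * (Y * dFive⁻¹) * dFive := by rw [e]
        _ = _ := by simp only [mul_assoc, inv_mul_cancel, mul_one]
  have hYne : Y ≠ wFive ∧ Y ≠ wFive⁻¹ := by
    have key : ∀ Z, g' * ι wFive * g'⁻¹ = ι Z → g' * ι Z * g'⁻¹ = ι wFive → False := by
      intro Z h1 h2
      have h3 : ι (W' * wFive) = ι (wFive * W') := by
        rw [map_mul, map_mul, ← hW']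
        calc g' * g' * ι wFive = g' * (g' * ι wFive * g'⁻¹) * g'⁻¹ * (g' * g') := by group
          _ = _ := by rw [h1, h2]
      have h4 := hι h3
      rcases hW'd with rfl | rfl <;> exact absurd h4 (by decide)
    constructor <;> intro e <;> rw [e] at hY
    · exact key _ hY hY
    · refine key _ hY ?_
      rw [map_inv, ← conj_inv, hY, map_inv, inv_inv]
  have hcases : wFive * Y * W' = 1 ∨ wFive * Y * W' = -1 := by
    rcases anticommute_dFive hYd with h | h | h | h
    · exact absurd h hYne.1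
    · exact absurd h hYne.2
    all_goals rcases hW'd with rfl | rfl <;> subst h <;> decide
  have hkey : ι wFive * g' * (ι wFive * g') = ι (wFive * Y * W') := by
    rw [map_mul, map_mul, ← hY, ← hW', sq_comm_helper]
  have hh : ι wFive * g' ∉ ι.range := hmove _ hg'
  rcases hcases with h | h
  · exact hout hh (by rw [hkey, h, map_one, map_one])
  · refine false_of_swap (h := f (ι wFive * g')) ?_ (centre_quadratic φ hφ) (hswap hh)
    rw [← map_mul, hkey, h]
    exact hm


/-- `SL(2,5)` has no overgroup of index two in a division ring. -/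
theorem no_index_two [CharZero D] (f : H →* D) (hf : Function.Injective f)
    (ι : SLFive →* H) (hι : Function.Injective ι) (hn : ι.range.Normal) (hi : ι.range.index = 2) :
    False := by
  set φ := f.comp ι with hφdef
  have hφ : Function.Injective φ := hf.comp hι
  have hm := map_neg_one φ hφ
  have hconj : ∀ (h : H) X, ∃ Y, h * ι X * h⁻¹ = ι Y := fun h X => by
    obtain ⟨Y, hY⟩ := hn.conj_mem (ι X) ⟨X, rfl⟩ h
    exact ⟨Y, hY.symm⟩
  have hmul : ∀ a b : H, a * b ∈ ι.range ↔ (a ∈ ι.range ↔ b ∈ ι.range) := fun a b =>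
    Subgroup.mul_mem_iff_of_index_two hi
  have hsq : ∀ a : H, ∃ W, a * a = ι W := fun a => by
    obtain ⟨W, hW⟩ := (hmul a a).2 Iff.rfl
    exact ⟨W, hW.symm⟩
  have hout : ∀ {a : H}, a ∉ ι.range → f (a * a) ≠ 1 := by
    intro a ha e
    rw [map_mul] at e
    rcases mul_self_eq_one_iff.1 e with h | h
    · exact ha ⟨1, hf (by rw [map_one, map_one, h])⟩
    · exact ha ⟨-1, hf (by rw [h, ← hm]; rfl)⟩
  obtain ⟨g₀, hg₀⟩ : ∃ g, g ∉ ι.range := by
    by_contra hall
    push Not at hall
    rw [Subgroup.index_eq_one.2 (eq_top_iff.2 fun a _ => hall a)] at hi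
    omega
  have hmove : ∀ {a : H} (r : SLFive), a ∉ ι.range → ι r * a ∉ ι.range := fun r ha h => by
    rw [hmul] at h
    exact ha (h.1 ⟨r, rfl⟩)
  -- an outer element sending the standard transvection into the upper unitriangular group
  obtain ⟨g₁, hg₁, x, hx⟩ : ∃ g, g ∉ ι.range ∧ ∃ x, g * ι (upperFive 4) * g⁻¹ = ι (upperFive x) := by
    obtain ⟨X, hX⟩ := hconj g₀ (upperFive 4)
    have hX5 : X ^ 5 = 1 := hι (by
      rw [map_pow, ← hX, conj_pow, ← map_pow, upperFive_pow, show ((5 : ℕ) : ZMod 5) = 0 from rfl,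
        zero_mul, upperFive_zero, map_one, mul_one, mul_inv_cancel])
    rcases five_cases hX5 with ⟨x, rfl⟩ | ⟨x, y, -, rfl⟩
    · exact ⟨g₀, hg₀, x, hX⟩
    · refine ⟨ι (wFive⁻¹ * upperFive (-x)) * g₀, hmove _ hg₀, -y, ?_⟩
      calc ι (wFive⁻¹ * upperFive (-x)) * g₀ * ι (upperFive 4) *
            (ι (wFive⁻¹ * upperFive (-x)) * g₀)⁻¹
          = ι (wFive⁻¹ * upperFive (-x)) * (g₀ * ι (upperFive 4) * g₀⁻¹) *
              (ι (wFive⁻¹ * upperFive (-x)))⁻¹ := conj_comm_helper _ _ _
        _ = _ := by rw [hX, ← map_inv, ← map_mul, ← map_mul, conj_lower_upper]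
  obtain ⟨g, hg, hgu⟩ : ∃ g, g ∉ ι.range ∧ (g * ι (upperFive 4) * g⁻¹ = ι (upperFive 4) ∨
      g * ι (upperFive 4) * g⁻¹ = ι (upperFive 2)) := by
    have hd : ι dFive * g₁ * ι (upperFive 4) * (ι dFive * g₁)⁻¹ = ι (upperFive (4 * x)) := by
      calc ι dFive * g₁ * ι (upperFive 4) * (ι dFive * g₁)⁻¹
          = ι dFive * (g₁ * ι (upperFive 4) * g₁⁻¹) * (ι dFive)⁻¹ := conj_comm_helper _ _ _
        _ = _ := by
          rw [hx, ← map_mul, mul_inv_eq_iff_eq_mul, ← map_mul]
          congr 1
          exact dFive_upper x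
    have hx0 : x ≠ 0 := fun e => by
      rw [e, upperFive_zero, map_one, mul_inv_eq_one, mul_eq_left, ← map_one ι] at hx
      exact absurd (hι hx) (by decide)
    have : x = 4 ∨ x = 2 ∨ 4 * x = 4 ∨ 4 * x = 2 := cases_four x hx0
    rcases this with e | e | e | e
    · exact ⟨g₁, hg₁, Or.inl (e ▸ hx)⟩
    · exact ⟨g₁, hg₁, Or.inr (e ▸ hx)⟩
    · exact ⟨_, hmove _ hg₁, Or.inl (e ▸ hd)⟩
    · exact ⟨_, hmove _ hg₁, Or.inr (e ▸ hd)⟩
  rcases hgu with hgu | hgu
  · exact no_outer_commuting f hf ι hι hn hi hg hgu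
  · exact no_outer_squaring f hf ι hι hn hi hg hgu

end Cfsg.Agent.Lie.Amitsur
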