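import Mathlib

/-!
Number theory for Amitsur's theorem on `SL(2,5)` in division rings: for a prime `q ≡ 3 (mod 20)`
that is a non-residue mod `p`, `2q` is `a² + 5b²` over `ℚ` and `-1` is `A² + qB²` in `ℚ(ζ_p)`.
-/

set_option autoImplicit false

namespace Cfsg.Agent.Lie.Amitsur

open Polynomial Finset

section Gauss

variable (q : ℕ) [Fact q.Prime]

noncomputable def residues : Finset (ZMod q) :=
  univ.filter fun a => quadraticChar (ZMod q) a = 1

noncomputable def nonResidues : Finset (ZMod q) :=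
  univ.filter fun a => quadraticChar (ZMod q) a = -1

noncomputable def periodPoly : (AddMonoidAlgebra ℤ (ZMod q))[X] :=
  ∏ a ∈ residues q, (X - C (AddMonoidAlgebra.single a 1))

noncomputable def dil (s : ZMod q) :
    AddMonoidAlgebra ℤ (ZMod q) →+* AddMonoidAlgebra ℤ (ZMod q) :=
  AddMonoidAlgebra.mapDomainRingHom ℤ (AddMonoidHom.mulLeft s)

theorem periodPoly_dil (s : ZMod q) :
    (periodPoly q).map (dil q s) = ∏ a ∈ residues q, (X - C (AddMonoidAlgebra.single (s * a) 1)) := by
  unfold periodPoly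
  rw [Polynomial.map_prod]
  refine prod_congr rfl fun a _ => ?_
  rw [Polynomial.map_sub, map_X, map_C]
  simp [dil]

theorem periodPoly_dil_one {s : ZMod q} (hs : quadraticChar (ZMod q) s = 1) :
    (periodPoly q).map (dil q s) = periodPoly q := by
  have s0 : s ≠ 0 := fun e => by simp [e] at hs
  rw [periodPoly_dil]
  refine prod_nbij' (fun a => s * a) (fun a => s⁻¹ * a) ?_ ?_ ?_ ?_ ?_
  · intro a ha
    simp only [residues, mem_filter, mem_univ, true_and, map_mul] at ha ⊢
    rw [hs, ha, one_mul]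
  · intro a ha
    simp only [residues, mem_filter, mem_univ, true_and, map_mul] at ha ⊢
    have h := map_mul (quadraticChar (ZMod q)) s s⁻¹
    rw [mul_inv_cancel₀ s0, map_one, hs, one_mul] at h
    rw [← h, ha, one_mul]
  · intro a _; field_simp
  · intro a _; field_simp
  · intro a _; rfl

theorem periodPoly_dil_neg (hq : q % 4 = 3) :
    (periodPoly q).map (dil q (-1)) =
      ∏ a ∈ nonResidues q, (X - C (AddMonoidAlgebra.single a 1)) := by
  have h2 : ringChar (ZMod q) ≠ 2 := by rw [ZMod.ringChar_zmod_n]; omega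
  have hm : quadraticChar (ZMod q) (-1) = -1 := by
    rw [quadraticChar_neg_one h2, ZMod.card, ZMod.χ₄_nat_three_mod_four hq]
  rw [periodPoly_dil]
  refine prod_nbij' (fun a => (-1) * a) (fun a => (-1) * a) ?_ ?_ ?_ ?_ ?_
  · intro a ha
    simp only [residues, nonResidues, mem_filter, mem_univ, true_and, map_mul] at ha ⊢
    rw [hm, ha]; rfl
  · intro a ha
    simp only [residues, nonResidues, mem_filter, mem_univ, true_and, map_mul] at ha ⊢
    rw [hm, ha]; rfl
  · intro a _; ring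
  · intro a _; ring
  · intro a _; rfl

theorem dil_coeff_mul {s : ZMod q} (hs : s ≠ 0) (c : AddMonoidAlgebra ℤ (ZMod q)) (a : ZMod q) :
    (dil q s c).coeff (s * a) = c.coeff a := by
  induction c using AddMonoidAlgebra.induction_linear with
  | zero => simp
  | add x y hx hy => simp [map_add, hx, hy]
  | single b n =>
    simp [dil, Finsupp.single_apply, mul_right_inj' hs]

/-- Every period-invariant element is a combination of the two Gaussian periods. -/
theorem coeff_eq (hq : q % 4 = 3) (n : ℕ) (a : ZMod q) (ha : a ≠ 0) :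
    ((periodPoly q).coeff n).coeff a =
      if quadraticChar (ZMod q) a = 1 then ((periodPoly q).coeff n).coeff 1
      else ((periodPoly q).coeff n).coeff (-1) := by
  have h2 : ringChar (ZMod q) ≠ 2 := by rw [ZMod.ringChar_zmod_n]; omega
  have key : ∀ s : ZMod q, quadraticChar (ZMod q) s = 1 → ∀ b,
      ((periodPoly q).coeff n).coeff (s * b) = ((periodPoly q).coeff n).coeff b := by
    intro s hs b
    have s0 : s ≠ 0 := fun e => by simp [e] at hs
    have h := dil_coeff_mul q s0 ((periodPoly q).coeff n) b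
    rwa [← coeff_map (dil q s), periodPoly_dil_one q hs] at h
  split
  · next h => simpa using key a h 1
  · next h =>
    have h' : quadraticChar (ZMod q) a = -1 :=
      (quadraticChar_dichotomy ha).resolve_left h
    have hm : quadraticChar (ZMod q) (-1) = -1 := by
      rw [quadraticChar_neg_one h2, ZMod.card, ZMod.χ₄_nat_three_mod_four hq]
    have hs : quadraticChar (ZMod q) (-a) = 1 := by
      rw [neg_eq_neg_one_mul, map_mul, hm, h']; rfl
    simpa using key (-a) hs (-1)

theorem disjoint_periods : Disjoint (residues q) (nonResidues q) := by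
  simp only [residues, nonResidues, disjoint_filter]
  intro a _ h h'; rw [h] at h'; exact absurd h' (by decide)

theorem union_periods : residues q ∪ nonResidues q = univ.erase (0 : ZMod q) := by
  ext a
  simp only [residues, nonResidues, mem_union, mem_filter, mem_univ, true_and, mem_erase, and_true]
  constructor
  · rintro (h | h) e <;> simp [e] at h
  · exact fun h => quadraticChar_dichotomy h

/-- Gauss: the cyclotomic polynomial of a prime `q ≡ 3 (mod 4)` is `Y² + qZ²` over `ℚ`. -/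
theorem exists_geom_sum_eq (hq : q % 4 = 3) :
    ∃ Y Z : ℚ[X], ∑ i ∈ range q, X ^ i = Y ^ 2 + (q : ℚ[X]) * Z ^ 2 := by
  classical
  have hq0 : q ≠ 0 := (Fact.out : q.Prime).ne_zero
  have h2 : ringChar (ZMod q) ≠ 2 := by rw [ZMod.ringChar_zmod_n]; omega
  haveI : NeZero q := ⟨hq0⟩
  have hζ := Complex.isPrimitiveRoot_exp q hq0
  set ζ := Complex.exp (2 * Real.pi * Complex.I / q)
  set ψ : AddChar (ZMod q) ℂ := AddChar.zmodChar q hζ.pow_eq_one with hψ
  have hψp : ψ.IsPrimitive := AddChar.zmodChar_primitive_of_primitive_root q hζ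
  let ev : AddMonoidAlgebra ℤ (ZMod q) →+* ℂ :=
    (AddMonoidAlgebra.lift ℤ ℂ (ZMod q) ψ.toMonoidHom).toRingHom
  have hev : ∀ a, ev (AddMonoidAlgebra.single a 1) = ψ a := fun a => by
    show AddMonoidAlgebra.lift ℤ ℂ (ZMod q) ψ.toMonoidHom (AddMonoidAlgebra.single a 1) = _
    rw [AddMonoidAlgebra.lift_single, one_zsmul]
    rfl
  have hevsum : ∀ c, ev c = ∑ a, ((c.coeff a : ℤ) : ℂ) * ψ a := by
    intro c
    show AddMonoidAlgebra.lift ℤ ℂ (ZMod q) ψ.toMonoidHom c = _
    rw [AddMonoidAlgebra.lift_apply, Finsupp.sum_fintype _ _ (fun i => by simp)]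
    exact sum_congr rfl fun a _ => by rw [zsmul_eq_mul]; rfl
  set χ : MulChar (ZMod q) ℂ := (quadraticChar (ZMod q)).ringHomComp (Int.castRingHom ℂ) with hχ
  set g := gaussSum χ ψ
  have hg : g ^ 2 = -(q : ℂ) := by
    rw [gaussSum_sq ?_ ((quadraticChar_isQuadratic (ZMod q)).comp _) hψp]
    · rw [ZMod.card]
      simp [hχ, quadraticChar_neg_one h2, ZMod.card, ZMod.χ₄_nat_three_mod_four hq]
    · exact MulChar.ringHomComp_ne_one_iff (Int.cast_injective) |>.2 (quadraticChar_ne_one h2)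
  have hu : ∑ a ∈ residues q, ψ a + ∑ a ∈ nonResidues q, ψ a = -1 := by
    have hd := disjoint_periods q
    have he := union_periods q
    rw [← sum_union hd, he, sum_erase_eq_sub (mem_univ _), AddChar.sum_eq_zero_of_ne_one,
      AddChar.map_zero_eq_one, zero_sub]
    intro e
    have := hψp (a := 1) one_ne_zero
    rw [AddChar.mulShift_one] at this
    exact this e
  have hd' : ∀ f : ZMod q → ℂ, ∑ a, f a = f 0 + ∑ a ∈ residues q, f a + ∑ a ∈ nonResidues q, f a := by
    intro f
    have hd := disjoint_periods q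
    have he := union_periods q
    rw [add_assoc, ← sum_union hd, he, add_sum_erase _ _ (mem_univ _)]
  have hgu : g = ∑ a ∈ residues q, ψ a - ∑ a ∈ nonResidues q, ψ a := by
    rw [show g = ∑ a, χ a * ψ a from rfl, hd', sub_eq_add_neg, ← sum_neg_distrib]
    have e0 : χ 0 * ψ 0 = 0 := by simp [hχ]
    rw [e0, zero_add]
    congr 1
    · exact sum_congr rfl fun a ha => by
        simp only [residues, mem_filter, mem_univ, true_and] at ha; simp [hχ, ha]
    · exact sum_congr rfl fun a ha => by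
        simp only [nonResidues, mem_filter, mem_univ, true_and] at ha; simp [hχ, ha]
  let yc : AddMonoidAlgebra ℤ (ZMod q) → ℚ := fun c =>
    (c.coeff 0 : ℚ) - ((c.coeff 1 : ℚ) + (c.coeff (-1) : ℚ)) / 2
  let zc : AddMonoidAlgebra ℤ (ZMod q) → ℚ := fun c => ((c.coeff 1 : ℚ) - (c.coeff (-1) : ℚ)) / 2
  have hev2 : ∀ n, ev ((periodPoly q).coeff n) =
        (yc ((periodPoly q).coeff n) : ℂ) + (zc ((periodPoly q).coeff n) : ℂ) * g ∧
      ev (dil q (-1) ((periodPoly q).coeff n)) =
        (yc ((periodPoly q).coeff n) : ℂ) - (zc ((periodPoly q).coeff n) : ℂ) * g := by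
    intro n
    set c := (periodPoly q).coeff n with hc
    have hp : ∀ a ∈ residues q, c.coeff a = c.coeff 1 := by
      intro a ha
      simp only [residues, mem_filter, mem_univ, true_and] at ha
      rw [hc, coeff_eq q hq n a (fun e => by simp [e] at ha), if_pos ha]
    have hn : ∀ a ∈ nonResidues q, c.coeff a = c.coeff (-1) := by
      intro a ha
      simp only [nonResidues, mem_filter, mem_univ, true_and] at ha
      rw [hc, coeff_eq q hq n a (fun e => by simp [e] at ha), if_neg (by rw [ha]; decide)]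
    have hm : ∀ a, (dil q (-1) c).coeff a = c.coeff (-a) := by
      intro a
      have h := dil_coeff_mul q (s := (-1 : ZMod q)) (by simp) c (-a)
      simpa using h
    have hnm : ∀ a, (a ∈ residues q → -a ∈ nonResidues q) ∧ (a ∈ nonResidues q → -a ∈ residues q) := by
      intro a
      have hm' : quadraticChar (ZMod q) (-1) = -1 := by
        rw [quadraticChar_neg_one h2, ZMod.card, ZMod.χ₄_nat_three_mod_four hq]
      simp only [residues, nonResidues, mem_filter, mem_univ, true_and]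
      rw [neg_eq_neg_one_mul a, map_mul, hm']
      constructor <;> intro h <;> rw [h] <;> rfl
    constructor
    · have e1 : ∑ a ∈ residues q, ((c.coeff a : ℤ) : ℂ) * ψ a =
          ((c.coeff 1 : ℤ) : ℂ) * ∑ a ∈ residues q, ψ a := by
        rw [mul_sum]; exact sum_congr rfl fun a ha => by rw [hp a ha]
      have e2 : ∑ a ∈ nonResidues q, ((c.coeff a : ℤ) : ℂ) * ψ a =
          ((c.coeff (-1) : ℤ) : ℂ) * ∑ a ∈ nonResidues q, ψ a := by
        rw [mul_sum]; exact sum_congr rfl fun a ha => by rw [hn a ha]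
      rw [hevsum, hd', e1, e2, AddChar.map_zero_eq_one, hgu]
      simp only [yc, zc]
      push_cast
      linear_combination (((c.coeff 1 : ℤ) : ℂ) + ((c.coeff (-1) : ℤ) : ℂ)) / 2 * hu
    · have e1 : ∑ a ∈ residues q, (((dil q (-1) c).coeff a : ℤ) : ℂ) * ψ a =
          ((c.coeff (-1) : ℤ) : ℂ) * ∑ a ∈ residues q, ψ a := by
        rw [mul_sum]; exact sum_congr rfl fun a ha => by rw [hm a, hn _ ((hnm a).1 ha)]
      have e2 : ∑ a ∈ nonResidues q, (((dil q (-1) c).coeff a : ℤ) : ℂ) * ψ a =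
          ((c.coeff 1 : ℤ) : ℂ) * ∑ a ∈ nonResidues q, ψ a := by
        rw [mul_sum]; exact sum_congr rfl fun a ha => by rw [hm a, hp _ ((hnm a).2 ha)]
      rw [hevsum, hd', e1, e2, hm, neg_zero, AddChar.map_zero_eq_one, hgu]
      simp only [yc, zc]
      push_cast
      linear_combination (((c.coeff 1 : ℤ) : ℂ) + ((c.coeff (-1) : ℤ) : ℂ)) / 2 * hu
  let N := (periodPoly q).natDegree + 1
  let Y : ℚ[X] := ∑ n ∈ range N, C (yc ((periodPoly q).coeff n)) * X ^ n
  let Z : ℚ[X] := ∑ n ∈ range N, C (zc ((periodPoly q).coeff n)) * X ^ n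
  have hYc : ∀ (f : AddMonoidAlgebra ℤ (ZMod q) → ℚ), f 0 = 0 → ∀ n,
      (∑ m ∈ range N, C (f ((periodPoly q).coeff m)) * X ^ m).coeff n = f ((periodPoly q).coeff n) := by
    intro f hf n
    rw [finset_sum_coeff]
    simp only [coeff_C_mul_X_pow, sum_ite_eq, mem_range]
    split
    · rfl
    · rw [coeff_eq_zero_of_natDegree_lt (by omega), hf]
  let i : ℚ →+* ℂ := algebraMap ℚ ℂ
  have hA : (periodPoly q).map ev = Y.map i + C g * Z.map i := by
    ext n
    rw [coeff_map, coeff_add, coeff_C_mul, coeff_map, coeff_map, hYc yc (by simp [yc]),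
      hYc zc (by simp [zc]), (hev2 n).1]
    simp [i, mul_comm]
  have hB : ((periodPoly q).map (dil q (-1))).map ev = Y.map i - C g * Z.map i := by
    ext n
    rw [coeff_map, coeff_map, coeff_sub, coeff_C_mul, coeff_map, coeff_map, hYc yc (by simp [yc]),
      hYc zc (by simp [zc]), (hev2 n).2]
    simp [i, mul_comm]
  refine ⟨Y, Z, map_injective i i.injective ?_⟩
  have hprod : (periodPoly q).map ev * ((periodPoly q).map (dil q (-1))).map ev =
      ∑ j ∈ range q, X ^ j := by
    rw [periodPoly_dil_neg q hq]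
    have e1 : ∀ T : Finset (ZMod q), (∏ a ∈ T, (X - C (AddMonoidAlgebra.single a (1 : ℤ)))).map ev =
        ∏ a ∈ T, (X - C (ψ a)) := by
      intro T
      rw [Polynomial.map_prod]
      exact prod_congr rfl fun a _ => by rw [Polynomial.map_sub, map_X, map_C, hev]
    unfold periodPoly
    rw [e1, e1]
    have hd := disjoint_periods q
    have he := union_periods q
    rw [← prod_union hd, he]
    apply mul_left_cancel₀ (X_sub_C_ne_zero (1 : ℂ))
    have h0 : (X - C (1 : ℂ)) = X - C (ψ 0) := by rw [AddChar.map_zero_eq_one]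
    conv_lhs => rw [h0]
    rw [mul_prod_erase univ (fun a => X - C (ψ a)) (mem_univ _),
      show (X - C (1 : ℂ)) = X - 1 by rw [map_one], mul_geom_sum,
      show (X ^ q - 1 : ℂ[X]) = X ^ q - C 1 by rw [map_one],
      X_pow_sub_C_eq_prod hζ (Nat.pos_of_ne_zero hq0) (one_pow q)]
    symm
    refine prod_nbij' (fun k : ℕ => (k : ZMod q)) (fun a => a.val) ?_ ?_ ?_ ?_ ?_
    · intro k _; exact mem_univ _
    · intro a _; exact mem_range.2 (ZMod.val_lt a)
    · intro k hk; exact ZMod.val_cast_of_lt (mem_range.1 hk)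
    · intro a _; simp
    · intro k _; rw [hψ, AddChar.zmodChar_apply', mul_one]
  rw [Polynomial.map_sum, Polynomial.map_add, Polynomial.map_pow, Polynomial.map_mul,
    Polynomial.map_natCast, Polynomial.map_pow]
  simp only [Polynomial.map_pow, map_X]
  rw [← hprod, hA, hB]
  have : C g ^ 2 = -(q : ℂ[X]) := by rw [← map_pow, hg, map_neg, map_natCast]
  linear_combination -(Z.map i) ^ 2 * this

end Gauss

theorem not_three_sq : ∀ U : ZMod 5, U * U ≠ 3 := by decide

/-- A prime `q ≡ 3 (mod 20)` has `2q = a² + 5b²` with rational `a, b`. -/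
theorem exists_two_mul_eq {q : ℕ} (hq : q.Prime) (h20 : q % 20 = 3) :
    ∃ a b : ℚ, 2 * (q : ℚ) = a ^ 2 + 5 * b ^ 2 := by
  classical
  haveI := Fact.mk hq
  haveI := Fact.mk Nat.prime_five
  have h2 : q ≠ 2 := by omega
  have h5 : q ≠ 5 := by omega
  have hn5 : ¬ IsSquare ((5 : ℕ) : ZMod q) := by
    rw [← ZMod.exists_sq_eq_prime_iff_of_mod_four_eq_one (p := 5) (q := q) (by norm_num) h2]
    rw [← ZMod.natCast_mod, show q % 5 = 3 by omega]
    rintro ⟨U, hU⟩
    exact not_three_sq U hU.symm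
  have hn1 : ¬ IsSquare (-1 : ZMod q) := by
    rw [ZMod.exists_sq_eq_neg_one_iff]; omega
  have hr : ringChar (ZMod q) ≠ 2 := by rw [ZMod.ringChar_zmod_n]; exact h2
  have hsq : IsSquare (-5 : ZMod q) := by
    have h5z : (5 : ZMod q) ≠ 0 := by
      intro e
      apply hn5
      rw [Nat.cast_ofNat, e]; exact IsSquare.zero
    have e1 := quadraticChar_neg_one_iff_not_isSquare.2 hn5
    have e2 := quadraticChar_neg_one_iff_not_isSquare.2 hn1
    rw [← quadraticChar_one_iff_isSquare (neg_ne_zero.2 h5z), neg_eq_neg_one_mul, map_mul,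
      show (5 : ZMod q) = ((5 : ℕ) : ZMod q) by norm_num, e1, e2]
    rfl
  obtain ⟨h, hh⟩ := hsq
  set r := Nat.sqrt q
  have hr1 : q < (r + 1) ^ 2 := Nat.lt_succ_sqrt' q
  have hr2 : r ^ 2 < q := by
    rcases lt_or_eq_of_le (Nat.sqrt_le' q) with h | h
    · exact h
    · exact absurd (show IsSquare q from ⟨r, by rw [← sq]; exact h.symm⟩) hq.not_isSquare
  obtain ⟨P, P', hne, heq⟩ := Fintype.exists_ne_map_eq_of_card_lt
    (fun P : Fin (r + 1) × Fin (r + 1) => ((P.1 : ℕ) : ZMod q) - h * ((P.2 : ℕ) : ZMod q))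
    (by rw [ZMod.card, Fintype.card_prod, Fintype.card_fin, ← sq]; exact hr1)
  set x : ℤ := (P.1 : ℕ) - (P'.1 : ℕ)
  set y : ℤ := (P.2 : ℕ) - (P'.2 : ℕ)
  have hxy : (x : ZMod q) = h * (y : ZMod q) := by
    simp only [x, y]
    push_cast
    linear_combination heq
  have hdvd : (q : ℤ) ∣ x ^ 2 + 5 * y ^ 2 := by
    rw [← ZMod.intCast_zmod_eq_zero_iff_dvd]
    push_cast
    rw [hxy]
    linear_combination -(y : ZMod q) ^ 2 * hh
  have hpos : 0 < x ^ 2 + 5 * y ^ 2 := by
    rcases eq_or_ne x 0 with hx | hx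
    · rcases eq_or_ne y 0 with hy | hy
      · exfalso
        simp only [x, y] at hx hy
        exact hne (Prod.ext (Fin.ext (by omega)) (Fin.ext (by omega)))
      · positivity
    · positivity
  have hbd : ∀ a b : Fin (r + 1), (((a : ℕ) : ℤ) - (b : ℕ)) ^ 2 < q := by
    intro a b
    have := a.isLt
    have := b.isLt
    have h1 : (((a : ℕ) : ℤ) - (b : ℕ)) ^ 2 ≤ (r : ℤ) ^ 2 := by
      apply sq_le_sq' <;> omega
    have h2' : (r : ℤ) ^ 2 < (q : ℤ) := by exact_mod_cast hr2
    exact lt_of_le_of_lt h1 h2'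
  obtain ⟨k, hk⟩ := hdvd
  have hk6 : k < 6 := by
    have := hbd P.1 P'.1
    have := hbd P.2 P'.2
    nlinarith
  have hk0 : 0 < k := by nlinarith
  have hq5 : ((q : ℤ) : ZMod 5) = 3 := by
    rw [Int.cast_natCast, ← ZMod.natCast_mod, show q % 5 = 3 by omega]; rfl
  have hk1 : ∀ u v : ℤ, u ^ 2 + 5 * v ^ 2 ≠ q := by
    intro u v e
    have e' := congrArg (Int.cast : ℤ → ZMod 5) e
    rw [hq5] at e'
    push_cast at e'
    rw [show (5 : ZMod 5) = 0 from rfl, zero_mul, add_zero] at e'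
    exact not_three_sq _ ((pow_two _).symm.trans e')
  obtain rfl | rfl | rfl | rfl | rfl : k = 1 ∨ k = 2 ∨ k = 3 ∨ k = 4 ∨ k = 5 := by omega
  · exact absurd (by linarith) (hk1 x y)
  · exact ⟨x, y, by exact_mod_cast (show (2 : ℤ) * q = x ^ 2 + 5 * y ^ 2 by linarith)⟩
  · refine ⟨((x : ℚ) - 5 * y) / 3, ((x : ℚ) + y) / 3, ?_⟩
    have hk' : (x : ℚ) ^ 2 + 5 * (y : ℚ) ^ 2 = q * 3 := by exact_mod_cast hk
    linear_combination -(2 / 3 : ℚ) * hk'
  · exfalso
    have e' := congrArg (Int.cast : ℤ → ZMod 4) hk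
    push_cast at e'
    rw [show (4 : ZMod 4) = 0 from rfl, mul_zero] at e'
    have h22 : ∀ U V : ZMod 4, U ^ 2 + 5 * V ^ 2 = 0 → 2 * U = 0 ∧ 2 * V = 0 := by decide
    obtain ⟨hx2, hy2⟩ := h22 _ _ e'
    have e2 : ∀ w : ℤ, (2 : ZMod 4) * (w : ZMod 4) = 0 → (2 : ℤ) ∣ w := by
      intro w hw
      have : ((2 * w : ℤ) : ZMod 4) = 0 := by push_cast; exact hw
      rw [ZMod.intCast_zmod_eq_zero_iff_dvd] at this
      omega
    obtain ⟨u, hu⟩ := e2 x hx2
    obtain ⟨v, hv⟩ := e2 y hy2
    exact hk1 u v (by rw [hu, hv] at hk; linarith)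
  · exfalso
    obtain ⟨u, hu⟩ : (5 : ℤ) ∣ x := by
      apply Int.Prime.dvd_pow' (p := 5) Nat.prime_five (k := 2)
      exact ⟨q - y ^ 2, by push_cast; linarith⟩
    rw [hu] at hk
    exact hk1 y u (by linarith)

/-- Dirichlet: a prime `q ≡ 3 (mod 20)` which is a non-residue mod `p`. -/
theorem exists_prime_aux {p : ℕ} (hp : p.Prime) (h7 : 7 ≤ p) :
    ∃ q : ℕ, q.Prime ∧ q % 20 = 3 ∧ ¬ IsSquare (q : ZMod p) := by
  classical
  haveI := Fact.mk hp
  obtain ⟨a, ha⟩ := FiniteField.exists_nonsquare (F := ZMod p) (by rw [ZMod.ringChar_zmod_n]; omega)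
  have hco : Nat.Coprime 20 p := by
    rw [Nat.coprime_comm, hp.coprime_iff_not_dvd]
    intro h
    have : p ≤ 20 := Nat.le_of_dvd (by norm_num) h
    interval_cases p <;> first
      | omega
      | (revert hp; norm_num)
  obtain ⟨k, hk20, hkp⟩ := Nat.chineseRemainder hco 3 a.val
  have hkc : k.Coprime (20 * p) := by
    apply Nat.Coprime.mul_right
    · rw [Nat.Coprime, Nat.ModEq.gcd_eq hk20]; decide
    · rw [Nat.coprime_comm, hp.coprime_iff_not_dvd]
      intro h
      rw [← ZMod.natCast_eq_zero_iff, (ZMod.natCast_eq_natCast_iff _ _ _).2 hkp, ZMod.natCast_zmod_val] at h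
      exact ha (h ▸ IsSquare.zero)
  obtain ⟨q, -, hq, hqk⟩ := Nat.forall_exists_prime_gt_and_modEq 0
    (q := 20 * p) (a := k) (by positivity) hkc
  refine ⟨q, hq, ?_, ?_⟩
  · have := (hqk.of_mul_right p).trans hk20
    exact this
  · have := (hqk.of_mul_left 20).trans hkp
    rw [(ZMod.natCast_eq_natCast_iff _ _ _).2 this, ZMod.natCast_zmod_val]
    exact ha

/-- `-1 = A² + qB²` modulo the `p`-th cyclotomic polynomial. -/
theorem exists_cyclotomic_dvd {p q : ℕ} [Fact p.Prime] [Fact q.Prime] (hp : 3 ≤ p) (hq : q % 4 = 3)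
    (hns : ¬ IsSquare (q : ZMod p)) :
    ∃ A B : ℚ[X], (∑ i ∈ range p, X ^ i) ∣ A ^ 2 + (q : ℚ[X]) * B ^ 2 + 1 := by
  classical
  have hirr : Irreducible (∑ i ∈ range p, (X : ℚ[X]) ^ i) := by
    rw [← cyclotomic_prime]
    exact cyclotomic.irreducible_rat (Fact.out : p.Prime).pos
  haveI := Fact.mk hirr
  set K := AdjoinRoot (∑ i ∈ range p, (X : ℚ[X]) ^ i)
  set z : K := AdjoinRoot.root _
  have hzs : ∑ i ∈ range p, z ^ i = 0 := by
    have h := AdjoinRoot.eval₂_root (∑ i ∈ range p, (X : ℚ[X]) ^ i)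
    simpa [eval₂_finsetSum] using h
  have hzp : z ^ p = 1 := by
    have := geom_sum_mul z p
    rw [hzs, zero_mul] at this
    exact (sub_eq_zero.1 this.symm)
  have hz1 : z - 1 ≠ 0 := by
    intro e
    rw [sub_eq_zero.1 e] at hzs
    have hp0 : (p : K) ≠ 0 := by
      have := (algebraMap ℚ K).injective.ne (show (p : ℚ) ≠ 0 by simp; omega)
      simpa using this
    simp only [one_pow, sum_const, card_range, nsmul_eq_mul, mul_one] at hzs
    exact hp0 hzs
  obtain ⟨Y, Z, hYZ⟩ := exists_geom_sum_eq q hq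
  have hnorm : ∀ w : K, ∃ A B : K, ∑ i ∈ range q, w ^ i = A ^ 2 + q * B ^ 2 := fun w => by
    refine ⟨aeval w Y, aeval w Z, ?_⟩
    have := congrArg (aeval w) hYZ
    simpa using this
  have hit : ∀ k : ℕ, ∃ A B : K, z ^ q ^ k - 1 = (z - 1) * (A ^ 2 + q * B ^ 2) := by
    intro k
    induction k with
    | zero => exact ⟨1, 0, by simp⟩
    | succ k ih =>
      obtain ⟨A, B, hAB⟩ := ih
      obtain ⟨A', B', hAB'⟩ := hnorm (z ^ q ^ k)
      refine ⟨A * A' - q * B * B', A * B' + B * A', ?_⟩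
      rw [pow_succ, pow_mul, ← geom_sum_mul, hAB', hAB]
      ring
  have hqk : (q : ZMod p) ^ (p / 2) = -1 := by
    have h0 : (q : ZMod p) ≠ 0 := fun e => hns (e ▸ IsSquare.zero)
    exact (ZMod.pow_div_two_eq_neg_one_or_one p h0).resolve_left
      (fun e => hns ((ZMod.euler_criterion p h0).2 e))
  have hinv : z ^ q ^ (p / 2) * z = 1 := by
    rw [← pow_succ]
    have hd : p ∣ q ^ (p / 2) + 1 := by
      rw [← ZMod.natCast_eq_zero_iff]
      push_cast
      rw [hqk, neg_add_cancel]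
    obtain ⟨m, hm⟩ := hd
    rw [hm, pow_mul, hzp, one_pow]
  obtain ⟨A, B, hAB⟩ := hit (p / 2)
  set y := z ^ ((p + 1) / 2)
  have hy : y ^ 2 = z := by
    rw [← pow_mul]
    have hodd : p % 2 = 1 := (Fact.out : p.Prime).eq_two_or_odd.resolve_left (by omega)
    rw [show (p + 1) / 2 * 2 = p + 1 by omega, pow_succ, hzp, one_mul]
  have hfin : (y * A) ^ 2 + q * (y * B) ^ 2 + 1 = 0 := by
    have e : (z - 1) * ((y * A) ^ 2 + q * (y * B) ^ 2 + 1) = 0 := by
      rw [mul_pow, mul_pow, hy]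
      linear_combination (-z) * hAB + hinv
    exact (mul_eq_zero.1 e).resolve_left hz1
  obtain ⟨A', hA'⟩ := AdjoinRoot.mk_surjective (y * A)
  obtain ⟨B', hB'⟩ := AdjoinRoot.mk_surjective (y * B)
  refine ⟨A', B', AdjoinRoot.mk_eq_zero.1 ?_⟩
  rw [map_add, map_add, map_pow, map_mul, map_pow, map_natCast, map_one, hA', hB']
  exact hfin

end Cfsg.Agent.Lie.Amitsur
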